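import Cfsg.Agent.H77.WA.Defs
import Cfsg.Agent.H48.WA.Components
import Cfsg.Agent.H21.WA.LinkBasic
import Cfsg.Agent.Components.PLocalMore

/-!
# A met component under two commuting strongly closed subgroups

`S₁`, `S₂` commute and contain the elementary abelian strongly closed `A`.  On a component met by
`A` one of them meets the Sylow 2-subgroup only in the part of `A`, and that one acts on the
component as `A` does.
-/

set_option autoImplicit false
set_option linter.unusedSectionVars false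
set_option linter.style.haveILetI false

namespace Cfsg.Agent.H21.ProductFusion

open Subgroup Cfsg.Agent
open Cfsg.Agent.H77.WA (Met Struct Quot TypeFacts AType NType)
open scoped commutatorElement

universe u

variable {G : Type u} [Group G] [Finite G]

local instance fact_two_pf : Fact (Nat.Prime 2) := ⟨Nat.prime_two⟩

/-- Two commuting strongly closed subgroups containing the strongly closed elementary `A`. -/
structure Frame (P : Sylow 2 G) (S₁ S₂ A : Subgroup G) : Prop where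
  hO : Cfsg.oddCore G = ⊥
  closed₁ : Cfsg.IsStronglyClosed S₁ (P : Subgroup G)
  closed₂ : Cfsg.IsStronglyClosed S₂ (P : Subgroup G)
  comm : ∀ a ∈ S₁, ∀ b ∈ S₂, a * b = b * a
  closedA : Cfsg.IsStronglyClosed A (P : Subgroup G)
  elem : Cfsg.IsElementaryAbelian 2 A
  le₁ : A ≤ S₁
  le₂ : A ≤ S₂
  str : Struct A

variable {P : Sylow 2 G} {S₁ S₂ A L : Subgroup G}

theorem Frame.symm (h : Frame P S₁ S₂ A) : Frame P S₂ S₁ A :=
  ⟨h.hO, h.closed₂, h.closed₁, fun a ha b hb => (h.comm b hb a ha).symm, h.closedA, h.elem, h.le₂,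
    h.le₁, h.str⟩

/-- `S` meets `L` only in the part of `A`, modulo the centre. -/
def SmallAt (A S L : Subgroup G) : Prop :=
  S ⊓ L ≤ A ⊓ L ⊔ centralizer (L : Set G)

/-- The automorphism induced on the central quotient. -/
def quotHom (L : Type u) [Group L] : MulAut L →* MulAut (L ⧸ center L) where
  toFun e := QuotientGroup.congr _ _ e (Components.map_center_equiv e)
  map_one' := MulEquiv.ext fun x => by
    induction x using QuotientGroup.induction_on with
    | H y => rfl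
  map_mul' e f := MulEquiv.ext fun x => by
    induction x using QuotientGroup.induction_on with
    | H y => rfl

theorem mem_sup_cent_iff {y : G} (hy : y ∈ L) :
    y ∈ A ⊓ L ⊔ centralizer (L : Set G) ↔ (⟨y, hy⟩ : ↥L) ∈ A.subgroupOf L ⊔ center ↥L := by
  constructor
  · intro h
    rw [sup_comm] at h
    obtain ⟨c, hc, a, ha, e⟩ := (Coprime.mem_sup_iff (inf_le_right.trans (le_normalizer.trans
      (Components.normalizer_le_normalizer_centralizer L)))).1 h
    have hcL : c ∈ L := by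
      have := L.mul_mem hy (L.inv_mem ha.2)
      rwa [← e, mul_inv_cancel_right] at this
    have hz : (⟨c, hcL⟩ : ↥L) ∈ center ↥L :=
      mem_center_iff.2 fun l => Subtype.ext (mem_centralizer_iff.1 hc l l.2)
    have := mul_mem (mem_sup_right (S := A.subgroupOf L) hz)
      (mem_sup_left (T := center ↥L) (show (⟨a, ha.2⟩ : ↥L) ∈ A.subgroupOf L from ha.1))
    rwa [show (⟨y, hy⟩ : ↥L) = ⟨c, hcL⟩ * ⟨a, ha.2⟩ from Subtype.ext e.symm]
  · intro h
    obtain ⟨a, ha, c, hc, e⟩ := mem_sup_of_normal_right.1 h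
    rw [show y = (a : G) * c from (congrArg Subtype.val e).symm]
    exact mul_mem (mem_sup_left ⟨mem_subgroupOf.1 ha, a.2⟩) (mem_sup_right
      (mem_centralizer_iff.2 fun l hl => congrArg Subtype.val (mem_center_iff.1 hc ⟨l, hl⟩)))

/-- The Sylow 2-subgroup `P ⊓ L` of a component holds the centre. -/
theorem exists_sylow (h : Frame P S₁ S₂ A) (hL : Cfsg.IsComponent L) :
    ∃ P₀ : Sylow 2 ↥L, (P₀ : Subgroup ↥L) = (P : Subgroup G).subgroupOf L ∧
      A.subgroupOf L ≤ (P₀ : Subgroup ↥L) ∧ center ↥L ≤ (P₀ : Subgroup ↥L) := by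
  obtain ⟨P₀, hP₀⟩ := Cfsg.Agent.S0542.result 2 L hL.1 P
  refine ⟨P₀, hP₀, fun a ha => hP₀ ▸ mem_subgroupOf.2 (h.closedA.1 (mem_subgroupOf.1 ha)), ?_⟩
  have hZ : IsPGroup 2 ↥(center ↥L) :=
    H46.HalfClasses.center_isPGroup (H48.WA.oddCore_subnormal h.hO hL.1)
  exact le_sup_right.trans (P₀.is_maximal' (P₀.isPGroup'.to_sup_of_normal_right hZ) le_sup_left).le

theorem le_cent (h : Frame P S₁ S₂ A) : S₁ ≤ centralizer (A : Set G) := fun s hs =>
  mem_centralizer_iff.2 fun a ha => (h.comm s hs a (h.le₂ ha)).symm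

/-- `S₁` fixes a met component. -/
theorem fix (h : Frame P S₁ S₂ A) (hL : Met A L) : S₁ ≤ normalizer (L : Set G) := by
  intro s hs
  by_contra hn
  obtain ⟨u, ⟨huA, huL⟩, huc⟩ := H21.WA.exists_noncentral h.str hL
  have huL' : u ∈ L.map (MulAut.conj s).toMonoidHom := ⟨u, huL, by
    show s * u * s⁻¹ = u
    rw [h.comm s hs u (h.le₂ huA), mul_inv_cancel_right]⟩
  exact huc (commutator_eq_bot_iff_le_centralizer.1 (Components.components_commute
    (Components.component_conj hL.1 s) hL.1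
    fun e => hn (Components.mem_normalizer_of_map_conj_eq e)) huL')

/-- The image of `S` in the quotient of a component is invariant under the normaliser of the Sylow
subgroup. -/
theorem normalizer_image_le {S : Subgroup G} (hS : Cfsg.IsStronglyClosed S (P : Subgroup G))
    {P₀ : Sylow 2 ↥L} (hP₀ : (P₀ : Subgroup ↥L) = (P : Subgroup G).subgroupOf L)
    (hZ : center ↥L ≤ (P₀ : Subgroup ↥L)) :
    normalizer (((P₀ : Subgroup ↥L).map (QuotientGroup.mk' (center ↥L)) : Subgroup (Quot L)) :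
        Set (Quot L)) ≤
      normalizer (((S.subgroupOf L).map (QuotientGroup.mk' (center ↥L)) : Subgroup (Quot L)) :
        Set (Quot L)) := by
  intro k hk
  obtain ⟨n, rfl⟩ := QuotientGroup.mk'_surjective _ k
  refine H39.mem_normalizer_of_conj_mem ?_
  rintro _ ⟨s, hs, rfl⟩
  rw [← map_inv, ← map_mul, ← map_mul]
  refine mem_map_of_mem _ (mem_subgroupOf.2 (hS.2 s (mem_subgroupOf.1 hs) n ?_))
  have hsP : s ∈ (P₀ : Subgroup ↥L) := hP₀ ▸ mem_subgroupOf.2 (hS.1 (mem_subgroupOf.1 hs))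
  have hm := (mem_normalizer_iff.1 hk _).1 (mem_map_of_mem (QuotientGroup.mk' (center ↥L)) hsP)
  rw [← map_inv, ← map_mul, ← map_mul, ← mem_comap, comap_map_eq, QuotientGroup.ker_mk',
    sup_of_le_left hZ, hP₀] at hm
  exact hm

/-- The involutions of the Sylow subgroup of a quotient of non-abelian type are the image of `A`. -/
theorem exists_ndata (htf : TypeFacts.{u}) (h : Frame P S₁ S₂ A) (hL : Met A L)
    (hN : NType (Quot L)) {P₀ : Sylow 2 ↥L} (hA₀ : A.subgroupOf L ≤ (P₀ : Subgroup ↥L)) :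
    ∃ V : Subgroup (Quot L),
      H77.WA.NData ((P₀ : Subgroup ↥L).map (QuotientGroup.mk' (center ↥L))) V ∧
        ∀ t ∈ (P₀ : Subgroup ↥L),
          (QuotientGroup.mk' (center ↥L) t ∈ V ↔ t ∈ A.subgroupOf L ⊔ center ↥L) := by
  obtain ⟨V, hV⟩ := htf.nab _ hN (P₀.mapSurjective (QuotientGroup.mk'_surjective (center ↥L)))
  rw [Sylow.coe_mapSurjective] at hV
  refine ⟨V, hV, fun t ht => ?_⟩
  rw [hV.mem_iff, ← h.str.image L hL P₀ hA₀ t ht, ← map_mul]
  exact ⟨fun h' => (QuotientGroup.eq_one_iff _).1 h'.2,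
    fun h' => ⟨mem_map_of_mem _ ht, (QuotientGroup.eq_one_iff _).2 h'⟩⟩

/-- In a quotient of abelian type everything comes from `A`. -/
theorem le_of_atype (htf : TypeFacts.{u}) (h : Frame P S₁ S₂ A) (hL : Met A L)
    (hA : AType (Quot L)) {P₀ : Sylow 2 ↥L} (hA₀ : A.subgroupOf L ≤ (P₀ : Subgroup ↥L))
    {t : ↥L} (ht : t ∈ (P₀ : Subgroup ↥L)) : t ∈ A.subgroupOf L ⊔ center ↥L := by
  have hsq := (htf.ab _ hA (P₀.mapSurjective (QuotientGroup.mk'_surjective (center ↥L)))).piece.sq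
  refine (h.str.image L hL P₀ hA₀ t ht).1 ((QuotientGroup.eq_one_iff _).1 ?_)
  exact (map_mul (QuotientGroup.mk' (center ↥L)) t t).trans (hsq _ ⟨t, ht, rfl⟩)

/-- A subgroup holding `A`: its image in the quotient is the involutions or everything. -/
theorem small_or_large (htf : TypeFacts.{u}) (h : Frame P S₁ S₂ A) (hL : Met A L)
    {S : Subgroup G} (hS : Cfsg.IsStronglyClosed S (P : Subgroup G)) (hAS : A ≤ S)
    {P₀ : Sylow 2 ↥L} (hP₀ : (P₀ : Subgroup ↥L) = (P : Subgroup G).subgroupOf L)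
    (hA₀ : A.subgroupOf L ≤ (P₀ : Subgroup ↥L)) (hZ : center ↥L ≤ (P₀ : Subgroup ↥L)) :
    SmallAt A S L ∨ NType (Quot L) ∧
      (S.subgroupOf L).map (QuotientGroup.mk' (center ↥L)) =
        (P₀ : Subgroup ↥L).map (QuotientGroup.mk' (center ↥L)) := by
  have hSP : S.subgroupOf L ≤ (P₀ : Subgroup ↥L) := fun y hy =>
    hP₀ ▸ mem_subgroupOf.2 (hS.1 (mem_subgroupOf.1 hy))
  rcases h.str.type L hL with hAT | hNT
  · exact Or.inl fun y hy => (mem_sup_cent_iff hy.2).2
      (le_of_atype htf h hL hAT hA₀ (hSP (mem_subgroupOf.2 hy.1 : (⟨y, hy.2⟩ : ↥L) ∈ _)))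
  obtain ⟨V, hV, hVm⟩ := exists_ndata htf h hL hNT hA₀
  set π := QuotientGroup.mk' (center ↥L)
  set D := (S.subgroupOf L).map π with hD
  have hVD : V ≤ D := fun v hv => by
    obtain ⟨t, ht, rfl⟩ := ((hV.mem_iff v).1 hv).1
    obtain ⟨a, ha, c, hc, rfl⟩ := mem_sup_of_normal_right.1 ((hVm t ht).1 hv)
    rw [map_mul, show π c = 1 from (QuotientGroup.eq_one_iff _).2 hc, mul_one]
    exact mem_map_of_mem π (mem_subgroupOf.2 (hAS (mem_subgroupOf.1 ha)))
  rcases hV.irred D hVD (map_mono hSP) (normalizer_image_le hS hP₀ hZ) with e | e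
  · exact Or.inl fun y hy => (mem_sup_cent_iff hy.2).2 ((hVm _
      (hSP (mem_subgroupOf.2 hy.1 : (⟨y, hy.2⟩ : ↥L) ∈ _))).1
        (e ▸ mem_map_of_mem π (mem_subgroupOf.2 hy.1 : (⟨y, hy.2⟩ : ↥L) ∈ S.subgroupOf L)))
  · exact Or.inr ⟨hNT, e⟩

/-- A group which is not small covers the Sylow subgroup of the component. -/
theorem large_cover (htf : TypeFacts.{u}) (h : Frame P S₁ S₂ A) (hL : Met A L)
    (hns : ¬ SmallAt A S₁ L) :
    (P : Subgroup G) ⊓ L ≤ S₁ ⊓ L ⊔ centralizer (L : Set G) := by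
  obtain ⟨P₀, hP₀, hA₀, hZ⟩ := exists_sylow h hL.1
  obtain ⟨-, e⟩ := (small_or_large htf h hL h.closed₁ h.le₁ hP₀ hA₀ hZ).resolve_left hns
  intro y hy
  obtain ⟨s, hs, es⟩ := e.ge (mem_map_of_mem _
    (hP₀ ▸ mem_subgroupOf.2 hy.1 : (⟨y, hy.2⟩ : ↥L) ∈ (P₀ : Subgroup ↥L)))
  have hc : s⁻¹ * ⟨y, hy.2⟩ ∈ center ↥L := (QuotientGroup.eq_one_iff _).1
    (show QuotientGroup.mk' (center ↥L) (s⁻¹ * ⟨y, hy.2⟩) = 1 by
      rw [map_mul, map_inv, es, inv_mul_cancel])
  rw [show y = (s : G) * ((s⁻¹ * ⟨y, hy.2⟩ : ↥L) : G) by simp]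
  exact mul_mem (mem_sup_left ⟨mem_subgroupOf.1 hs, s.2⟩) (mem_sup_right
    (mem_centralizer_iff.2 fun l hl => congrArg Subtype.val (mem_center_iff.1 hc ⟨l, hl⟩)))

/-- One of the two is small. -/
theorem small_or_small (htf : TypeFacts.{u}) (h : Frame P S₁ S₂ A) (hL : Met A L) :
    SmallAt A S₁ L ∨ SmallAt A S₂ L := by
  by_contra! hns
  obtain ⟨P₀, hP₀, hA₀, hZ⟩ := exists_sylow h hL.1
  obtain ⟨hNT, e₁⟩ := (small_or_large htf h hL h.closed₁ h.le₁ hP₀ hA₀ hZ).resolve_left hns.1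
  obtain ⟨-, e₂⟩ := (small_or_large htf h hL h.closed₂ h.le₂ hP₀ hA₀ hZ).resolve_left hns.2
  obtain ⟨V, hV, -⟩ := exists_ndata htf h hL hNT hA₀
  set π := QuotientGroup.mk' (center ↥L)
  have hcomm : (P₀ : Subgroup ↥L).map π ≤
      centralizer (((P₀ : Subgroup ↥L).map π : Subgroup (Quot L)) : Set (Quot L)) := by
    intro a ha
    refine mem_centralizer_iff.2 fun b hb => ?_
    obtain ⟨a', ha', rfl⟩ := e₁.ge ha
    obtain ⟨b', hb', rfl⟩ := e₂.ge hb
    rw [← map_mul, ← map_mul]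
    exact congrArg π (Subtype.ext
      (h.comm _ (mem_subgroupOf.1 ha') _ (mem_subgroupOf.1 hb')).symm)
  have h4 := hV.four
  rw [← hV.comm, commutator_eq_bot_iff_le_centralizer.2 hcomm, Subgroup.card_bot] at h4
  omega

/-- What acts trivially on the central quotient of a component centralises it. -/
theorem mem_centralizer_of_quot (hL : Cfsg.IsComponent L) {x : G} (hx : x ∈ normalizer (L : Set G))
    (h : quotHom ↥L (L.normalizerMonoidHom ⟨x, hx⟩) = 1) : x ∈ centralizer (L : Set G) := by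
  set K := ((quotHom ↥L).comp L.normalizerMonoidHom).ker.map (normalizer (L : Set G)).subtype
    with hK
  have hKc : ⁅⁅K, L⁆, L⁆ = ⊥ := by
    rw [commutator_eq_bot_iff_le_centralizer]
    refine commutator_le.2 ?_
    rintro _ ⟨⟨k, hkn⟩, hk, rfl⟩ l hl
    have h1 := DFunLike.congr_fun (MonoidHom.mem_ker.1 hk) (QuotientGroup.mk' _ (⟨l, hl⟩ : ↥L))
    have h2 : k * l * k⁻¹ ∈ L := Coprime.conj_mem hkn hl
    have hc : (⟨l, hl⟩ : ↥L)⁻¹ * ⟨_, h2⟩ ∈ center ↥L :=
      QuotientGroup.eq.1 (show (QuotientGroup.mk ⟨l, hl⟩ : Quot L) = QuotientGroup.mk ⟨_, h2⟩ from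
        h1.symm)
    refine mem_centralizer_iff.2 fun y hy => ?_
    have h3 := congrArg Subtype.val (mem_center_iff.1 hc ⟨y, hy⟩)
    have h4 := congrArg Subtype.val (mem_center_iff.1
      (Subgroup.Normal.conj_mem inferInstance _ hc (⟨l, hl⟩ : ↥L)) ⟨y, hy⟩)
    simpa [commutatorElement_def, mul_assoc] using h4
  exact commutator_eq_bot_iff_le_centralizer.1
    (Components.commutator_eq_bot_of_perfect' (Components.component_perfect hL) hKc)
    ⟨⟨x, hx⟩, MonoidHom.mem_ker.2 h, rfl⟩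

/-- A small member acts as `A` does. -/
theorem strong (htf : TypeFacts.{u}) (h : Frame P S₁ S₂ A) (hL : Met A L)
    (hs : SmallAt A S₁ L) : S₁ ≤ A ⊓ L ⊔ centralizer (L : Set G) := by
  intro s hsS
  obtain ⟨P₀, hP₀, hA₀, hZ⟩ := exists_sylow h hL.1
  set π := QuotientGroup.mk' (center ↥L) with hπ
  have hsn : s ∈ normalizer (L : Set G) := fix h hL hsS
  have hsc := le_cent h hsS
  set ψ := (quotHom ↥L).comp L.normalizerMonoidHom
  set φ := ψ ⟨s, hsn⟩ with hφ
  have hconj : ∀ l : ↥L, φ (π l) =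
      π ⟨s * l * s⁻¹, Coprime.conj_mem hsn l.2⟩ := fun l => rfl
  have hφ2 : ∃ j : ℕ, φ ^ 2 ^ j = 1 := by
    obtain ⟨j, hj⟩ := P.isPGroup' ⟨s, h.closed₁.1 hsS⟩
    refine ⟨j, ?_⟩
    rw [hφ, ← map_pow, show (⟨s, hsn⟩ : ↥(normalizer (L : Set G))) ^ 2 ^ j = 1 from
      Subtype.ext (by simpa using congrArg Subtype.val hj), map_one]
  have hfix : ∀ t ∈ A.subgroupOf L ⊔ center ↥L, φ (π t) = π t := by
    intro t ht
    obtain ⟨a, ha, c, hc, rfl⟩ := mem_sup_of_normal_right.1 ht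
    rw [map_mul, show π c = 1 from (QuotientGroup.eq_one_iff _).2 hc, mul_one, hconj]
    exact congrArg π (Subtype.ext (by
      show s * (a : G) * s⁻¹ = a
      rw [← mem_centralizer_iff.1 hsc a (mem_subgroupOf.1 ha), mul_inv_cancel_right]))
  -- `φ` is the conjugation by an element of the Sylow subgroup
  obtain ⟨t, ht, htφ⟩ : ∃ t ∈ (P₀ : Subgroup ↥L), φ = MulAut.conj (π t) := by
    rcases h.str.type L hL with hAT | hNT
    · obtain ⟨_, ⟨t, ht, rfl⟩, e⟩ :=
        (htf.ab _ hAT (P₀.mapSurjective (QuotientGroup.mk'_surjective (center ↥L)))).inner φ hφ2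
          fun y hy => by
            obtain ⟨y', hy', rfl⟩ := hy
            exact hfix _ (le_of_atype htf h hL hAT hA₀ hy')
      exact ⟨t, ht, e⟩
    · obtain ⟨V, hV, hVm⟩ := exists_ndata htf h hL hNT hA₀
      obtain ⟨_, ⟨t, ht, rfl⟩, e⟩ := hV.inner φ hφ2
        (fun v hv => by
          obtain ⟨t, ht, rfl⟩ := ((hV.mem_iff v).1 hv).1
          exact hfix t ((hVm t ht).1 hv))
        (fun y hy => by
          obtain ⟨t, ht, rfl⟩ := hy
          have htP : (t : G) ∈ (P : Subgroup G) := mem_subgroupOf.1 (hP₀ ▸ ht)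
          have hsP := h.closed₁.1 hsS
          have hm : (t : G) * s⁻¹ * (t : G)⁻¹ ∈ S₁ := h.closed₁.2 _ (inv_mem hsS) t
            (mul_mem (mul_mem htP (inv_mem hsP)) (inv_mem htP))
          have hmL : s * t * s⁻¹ * (t : G)⁻¹ ∈ L :=
            L.mul_mem (Coprime.conj_mem hsn t.2) (L.inv_mem t.2)
          have hmS : s * t * s⁻¹ * (t : G)⁻¹ ∈ S₁ := by
            simpa [mul_assoc] using S₁.mul_mem hsS hm
          rw [hconj, ← map_inv, ← map_mul]
          refine (hVm _ ?_).2 ((mem_sup_cent_iff hmL).1 (hs ⟨hmS, hmL⟩))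
          rw [hP₀]
          exact mem_subgroupOf.2 (h.closed₁.1 hmS))
      exact ⟨t, ht, e⟩
  set c := (t : G)⁻¹ * s with hcdef
  have hc : c ∈ centralizer (L : Set G) := by
    have htn : (t : G) ∈ normalizer (L : Set G) := le_normalizer t.2
    refine mem_centralizer_of_quot hL.1 (mul_mem (inv_mem htn) hsn) ?_
    have e1 : ψ ⟨t, htn⟩ = MulAut.conj (π t) := MulEquiv.ext fun x => by
      induction x using QuotientGroup.induction_on with
      | H y => rfl
    show ψ ((⟨t, htn⟩ : ↥(normalizer (L : Set G)))⁻¹ * ⟨s, hsn⟩) = 1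
    rw [map_mul, map_inv, e1, ← hφ, htφ, inv_mul_cancel]
  suffices htA : t ∈ A.subgroupOf L ⊔ center ↥L by
    rw [show s = (t : G) * c by rw [hcdef, mul_inv_cancel_left]]
    exact mul_mem ((mem_sup_cent_iff t.2).2 htA) (mem_sup_right hc)
  rcases h.str.type L hL with hAT | hNT
  · exact le_of_atype htf h hL hAT hA₀ ht
  obtain ⟨V, hV, hVm⟩ := exists_ndata htf h hL hNT hA₀
  refine (hVm t ht).1 ?_
  set T := (P₀ : Subgroup ↥L).map π with hT
  have hVT : V ≤ T := fun v hv => ((hV.mem_iff v).1 hv).1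
  have hD : normalizer (T : Set (Quot L)) ≤
      normalizer ((V ⊔ zpowers (π t) : Subgroup (Quot L)) : Set (Quot L)) := by
    intro k hk
    have hVk : ∀ v ∈ V, k * v * k⁻¹ ∈ V := fun v hv => by
      obtain ⟨hvT, hv2⟩ := (hV.mem_iff v).1 hv
      refine (hV.mem_iff _).2 ⟨(mem_normalizer_iff.1 hk v).1 hvT, ?_⟩
      rw [show k * v * k⁻¹ * (k * v * k⁻¹) = k * (v * v) * k⁻¹ by group, hv2]; simp
    obtain ⟨n, rfl⟩ := QuotientGroup.mk'_surjective _ k
    refine Coprime.mem_normalizer_of_map_conj (eq_of_le_of_card_ge ?_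
      (by rw [Coprime.card_map_conj]))
    rw [Subgroup.map_sup, MonoidHom.map_zpowers]
    refine sup_le (fun _ hy => ?_) (zpowers_le.2 ?_)
    · obtain ⟨v, hv, rfl⟩ := hy
      exact mem_sup_left (hVk v hv)
    have hm := (mem_normalizer_iff.1 hk _).1 (mem_map_of_mem π ht)
    rw [← map_inv, ← map_mul, ← map_mul, ← mem_comap, hT, comap_map_eq, QuotientGroup.ker_mk',
      sup_of_le_left hZ] at hm
    have htP : (t : G) ∈ (P : Subgroup G) := mem_subgroupOf.1 (hP₀ ▸ ht)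
    have hnP : (n : G) * t * (n : G)⁻¹ ∈ (P : Subgroup G) := mem_subgroupOf.1 (hP₀ ▸ hm)
    have e : (n : G) * s * (n : G)⁻¹ = (n : G) * t * (n : G)⁻¹ * (t : G)⁻¹ * s := by
      have hcn : c * (n : G)⁻¹ = (n : G)⁻¹ * c :=
        (mem_centralizer_iff.1 hc _ (L.inv_mem n.2)).symm
      calc (n : G) * s * (n : G)⁻¹ = (n : G) * t * (c * (n : G)⁻¹) := by rw [hcdef]; group
        _ = _ := by rw [hcn, hcdef]; group
    have hns : (n : G) * s * (n : G)⁻¹ ∈ S₁ := h.closed₁.2 s hsS n (by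
      rw [e]; exact mul_mem (mul_mem hnP (inv_mem htP)) (h.closed₁.1 hsS))
    have hnS : (n : G) * t * (n : G)⁻¹ * (t : G)⁻¹ ∈ S₁ := by
      have := S₁.mul_mem hns (S₁.inv_mem hsS)
      rwa [e, mul_inv_cancel_right] at this
    have hv : π (n * t * n⁻¹ * t⁻¹) ∈ V :=
      (hVm _ (mul_mem hm (inv_mem ht))).2
        ((mem_sup_cent_iff (n * t * n⁻¹ * t⁻¹ : ↥L).2).1
          (hs ⟨hnS, (n * t * n⁻¹ * t⁻¹ : ↥L).2⟩))
    have := mul_mem (mem_sup_left (T := zpowers (π t)) hv)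
      (mem_sup_right (S := V) (mem_zpowers (π t)))
    rw [← map_mul, inv_mul_cancel_right, map_mul, map_mul, map_inv] at this
    exact this
  rcases hV.irred _ le_sup_left (sup_le hVT (zpowers_le.2 (mem_map_of_mem π ht))) hD with e | e
  · exact e ▸ mem_sup_right (mem_zpowers (π t))
  exfalso
  have hz : zpowers (π t) ≤ centralizer (T : Set (Quot L)) := by
    conv => enter [2, 1]; rw [← e]
    rw [le_centralizer_iff]
    refine sup_le ((hV.central.trans (centralizer_le ?_)))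
      (le_centralizer_iff_isMulCommutative.2 inferInstance)
    exact SetLike.coe_subset_coe.2 (zpowers_le.2 (mem_map_of_mem π ht))
  have h4 := hV.four
  rw [← hV.comm, commutator_eq_bot_iff_le_centralizer.2
    (e.symm.le.trans (sup_le hV.central hz)), Subgroup.card_bot] at h4
  omega

/-- An element of `S₁` in `S₂ M` acts on `L` as an element of `S₁ ⊓ L`. -/
theorem mem_step (htf : TypeFacts.{u}) (h : Frame P S₁ S₂ A) (hL : Met A L) {M : Subgroup G}
    (hM : M ≤ L ⊔ centralizer (L : Set G)) :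
    S₁ ⊓ (S₂ ⊔ M) ≤ S₁ ⊓ L ⊔ centralizer (L : Set G) := by
  rcases small_or_small htf h hL with hs | hs
  · exact inf_le_left.trans ((strong htf h hL hs).trans
      (sup_le_sup_right (inf_le_inf_right _ h.le₁) _))
  by_cases hs₁ : SmallAt A S₁ L
  · exact inf_le_left.trans ((strong htf h hL hs₁).trans
      (sup_le_sup_right (inf_le_inf_right _ h.le₁) _))
  rintro s ⟨hsS, hsM⟩
  have hsL : s ∈ centralizer (L : Set G) ⊔ L := by
    rw [sup_comm]
    exact sup_le ((strong htf h.symm hL hs).trans (sup_le_sup_right inf_le_right _)) hM hsM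
  obtain ⟨c, hc, l, hl, rfl⟩ := (Coprime.mem_sup_iff (le_normalizer.trans
    (Components.normalizer_le_normalizer_centralizer L))).1 hsL
  refine mul_mem (mem_sup_right hc) (large_cover htf h hL hs₁ ⟨?_, hl⟩)
  obtain ⟨P₀, hP₀, -, hZ⟩ := exists_sylow h hL.1
  have hsP : c * l ∈ (P : Subgroup G) := h.closed₁.1 hsS
  have hsn := fix h hL hsS
  have hln : (⟨l, hl⟩ : ↥L) ∈ normalizer ((P₀ : Subgroup ↥L) : Set ↥L) := by
    refine H39.mem_normalizer_of_conj_mem fun y hy => ?_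
    rw [hP₀, mem_subgroupOf] at hy ⊢
    have hyL : l * (y : G) * l⁻¹ ∈ L := L.mul_mem (L.mul_mem hl y.2) (L.inv_mem hl)
    have e : c * l * y * (c * l)⁻¹ = l * (y : G) * l⁻¹ := by
      calc c * l * y * (c * l)⁻¹ = c * (l * (y : G) * l⁻¹) * c⁻¹ := by group
        _ = _ := by rw [← mem_centralizer_iff.1 hc _ hyL, mul_inv_cancel_right]
    show l * (y : G) * l⁻¹ ∈ (P : Subgroup G)
    rw [← e]
    exact mul_mem (mul_mem hsP hy) (inv_mem hsP)
  have hl2 : IsPGroup 2 ↥(zpowers (⟨l, hl⟩ : ↥L)) := by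
    obtain ⟨j, hj⟩ := P.isPGroup' ⟨_, hsP⟩
    have hcomm : Commute c l := (mem_centralizer_iff.1 hc l hl).symm
    have h1 : c ^ 2 ^ j * l ^ 2 ^ j = 1 := by
      rw [← hcomm.mul_pow]; simpa using congrArg Subtype.val hj
    have hz : (⟨l, hl⟩ : ↥L) ^ 2 ^ j ∈ center ↥L := mem_center_iff.2 fun y => Subtype.ext (by
      show (y : G) * l ^ 2 ^ j = l ^ 2 ^ j * y
      rw [eq_inv_of_mul_eq_one_right h1]
      exact mem_centralizer_iff.1 (inv_mem (pow_mem hc _)) y y.2)
    obtain ⟨i, hi⟩ := H46.HalfClasses.center_isPGroup (H48.WA.oddCore_subnormal h.hO hL.1.1)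
      ⟨_, hz⟩
    have h2 : (⟨l, hl⟩ : ↥L) ^ 2 ^ (j + i) = 1 := by
      rw [pow_add, pow_mul]; exact congrArg Subtype.val hi
    exact fun ⟨x, hx⟩ => ⟨j + i, Subtype.ext (by
      obtain ⟨k, rfl⟩ := mem_zpowers_iff.1 hx
      show ((⟨l, hl⟩ : ↥L) ^ k) ^ 2 ^ (j + i) = 1
      rw [← zpow_natCast, ← zpow_mul, mul_comm, zpow_mul, zpow_natCast, h2, one_zpow])⟩
  have hmax := P₀.is_maximal' (P₀.isPGroup'.to_sup_of_normal_left' hl2 (zpowers_le.2 hln))
    le_sup_left
  have : (⟨l, hl⟩ : ↥L) ∈ (P₀ : Subgroup ↥L) := hmax ▸ mem_sup_right (mem_zpowers _)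
  rwa [hP₀, mem_subgroupOf] at this

end Cfsg.Agent.H21.ProductFusion
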