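import Cfsg.Agent.H21.ProductFusion.Main
import Cfsg.Agent.H48.WA.Struct
import Cfsg.Agent.H48.WA.Reduce
import Cfsg.Agent.H50.WA.TypeFacts

/-!
# Product fusion from the theorem on strongly closed abelian subgroups
-/

set_option autoImplicit false

namespace Cfsg.Agent.H21.ProductFusion

open Subgroup
open scoped commutatorElement

universe u

/-- Product fusion, given Goldschmidt's theorem for simple groups. -/
theorem productFusion_of (hwa : H48.WA.GoldschmidtStatement.{u}) {G : Type u} [Group G] [Finite G]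
    (S : Sylow 2 G) (S₁ S₂ : Subgroup G) (h₁ : Cfsg.IsStronglyClosed S₁ (S : Subgroup G))
    (h₂ : Cfsg.IsStronglyClosed S₂ (S : Subgroup G))
    (hc : ∀ a ∈ S₁, ∀ b ∈ S₂, a * b = b * a) :
    ⁅normalClosure (S₁ : Set G), normalClosure (S₂ : Set G)⁆ ≤
      normalClosure ((S₁ ⊓ S₂ : Subgroup G) : Set G) ⊔ Cfsg.pPrimeCore 2 G :=
  productFusion H50.WA.typeFacts H48.WA.structFacts (small_of_simple hwa) S S₁ S₂ h₁ h₂ hc

end Cfsg.Agent.H21.ProductFusion
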