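import Cfsg.Agent.H21.ProductFusion.Component
import Cfsg.Agent.H46.HalfClasses.Centre
import Cfsg.Agent.H52.Commuting.Product

/-!
# The normal closure of `A` under two commuting strongly closed subgroups

With `M` the normal closure of `A`: `S₁ ∩ S₂M ≤ (S₁ ∩ S₂)M`, the commutator of the normal closures
of `S₁` and `S₂` acts on `M` by inner automorphisms, and so does `S₁ ∩ S₂`.
-/

set_option autoImplicit false
set_option linter.unusedSectionVars false
set_option linter.style.haveILetI false

namespace Cfsg.Agent.H21.ProductFusion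

open Subgroup Cfsg.Agent
open Cfsg.Agent.H77.WA (Met Struct Quot TypeFacts AType NType)
open scoped commutatorElement

universe u

variable {G : Type u} [Group G] [Finite G]

local instance fact_two_pg : Fact (Nat.Prime 2) := ⟨Nat.prime_two⟩

/-- Removing commuting parts one after the other. -/
theorem reduce {ι : Type*} [Finite ι] (L U : ι → Subgroup G) (R : Subgroup G)
    (hUL : ∀ i, U i ≤ L i) (hcomm : ∀ i j, i ≠ j → U i ≤ centralizer (L j : Set G))
    (hUR : ∀ i, U i ≤ R) (hstep : ∀ i, R ≤ U i ⊔ centralizer (L i : Set G)) :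
    R ≤ (⨆ i, U i) ⊔ (R ⊓ ⨅ i, centralizer (L i : Set G)) := by
  classical
  haveI := Fintype.ofFinite ι
  suffices key : ∀ F : Finset ι, R ≤ (⨆ i, U i) ⊔ (R ⊓ ⨅ i ∈ F, centralizer (L i : Set G)) by
    refine (key Finset.univ).trans (sup_le_sup_left (inf_le_inf_left _ ?_) _)
    exact le_iInf fun i => iInf₂_le i (Finset.mem_univ i)
  intro F
  induction F using Finset.induction_on with
  | empty => simp
  | @insert i F hi ih =>
    refine ih.trans (sup_le le_sup_left ?_)
    rintro y ⟨hyR, hyC⟩
    obtain ⟨c, hc, w, hw, rfl⟩ := (Coprime.mem_sup_iff ((hUL i).trans (le_normalizer.trans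
      (Components.normalizer_le_normalizer_centralizer (L i))))).1
      (show y ∈ centralizer (L i : Set G) ⊔ U i by rw [sup_comm]; exact hstep i hyR)
    have hcR : c ∈ R := by
      have := R.mul_mem hyR (R.inv_mem (hUR i hw))
      rwa [mul_inv_cancel_right] at this
    have hw' : w ∈ ⨅ j ∈ F, centralizer (L j : Set G) := by
      simp only [mem_iInf]
      exact fun j hj => hcomm i j (fun e => hi (e ▸ hj)) hw
    have hcF : c ∈ ⨅ j ∈ F, centralizer (L j : Set G) := by
      have := Subgroup.mul_mem _ hyC (Subgroup.inv_mem _ hw')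
      rwa [mul_inv_cancel_right] at this
    refine mul_mem (mem_sup_right ⟨hcR, ?_⟩) (mem_sup_left (mem_iSup_of_mem i hw))
    rw [Finset.iInf_insert]
    exact ⟨hc, hcF⟩

variable {P : Sylow 2 G} {S₁ S₂ A : Subgroup G}

/-- The met components. -/
abbrev MetComp (A : Subgroup G) : Type u :=
  {L : Subgroup G // Met A L}

/-- The product of the met components. -/
abbrev metProd (A : Subgroup G) : Subgroup G :=
  ⨆ L : MetComp A, (L : Subgroup G)

/-- What centralises all met components. -/
abbrev metCent (A : Subgroup G) : Subgroup G :=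
  ⨅ L : MetComp A, centralizer ((L : Subgroup G) : Set G)

theorem comp_comm (L K : MetComp A) (hne : L ≠ K) :
    (L : Subgroup G) ≤ centralizer ((K : Subgroup G) : Set G) :=
  commutator_eq_bot_iff_le_centralizer.1
    (Components.components_commute L.2.1 K.2.1 fun e => hne (Subtype.ext e))

theorem comp_le_closure {L : Subgroup G} (hL : Met A L) : L ≤ normalClosure (A : Set G) := by
  refine (Components.component_le_or_commutator_eq_bot_normal hL.1 _).resolve_right fun h => hL.2 ?_
  rw [commutator_comm, commutator_eq_bot_iff_le_centralizer] at h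
  exact le_normalClosure.trans h

theorem A_le_sup (h : Frame P S₁ S₂ A) : A ≤ A ⊓ Cfsg.pCore 2 G ⊔ metProd A := by
  refine (reduce (fun L : MetComp A => (L : Subgroup G)) (fun L => A ⊓ L) A (fun L => inf_le_right)
    (fun L K hne => inf_le_right.trans (comp_comm L K hne)) (fun L => inf_le_left)
    fun L => (h.str.split L L.2).trans (sup_le_sup_left inf_le_right _)).trans ?_
  refine sup_le (iSup_le fun L => inf_le_right.trans (le_sup_of_le_right
    (le_iSup (fun L : MetComp A => (L : Subgroup G)) L))) ?_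
  rw [h.str.two_part]
  exact le_sup_left

theorem normalClosure_A_le (h : Frame P S₁ S₂ A) :
    normalClosure (A : Set G) ≤ A ⊓ Cfsg.pCore 2 G ⊔ metProd A := by
  have e : A ⊓ Cfsg.pCore 2 G ⊔ metProd A = A ⊔ metProd A :=
    le_antisymm (sup_le_sup_right inf_le_left _) (sup_le (A_le_sup h) le_sup_right)
  rw [e]
  haveI := h.str.normal
  exact normalClosure_le_normal fun a ha => mem_sup_left ha

theorem closure_le_comp (h : Frame P S₁ S₂ A) (L : MetComp A) :
    normalClosure (A : Set G) ≤
      (L : Subgroup G) ⊔ centralizer ((L : Subgroup G) : Set G) := by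
  refine (normalClosure_A_le h).trans (sup_le ?_ (iSup_le fun K => ?_))
  · rw [h.str.two_part]
    exact inf_le_right.trans ((iInf_le _ L).trans le_sup_right)
  · rcases eq_or_ne K L with rfl | hne
    · exact le_sup_left
    · exact (comp_comm K L hne).trans le_sup_right

/-- The centre of a met component lies in `A`. -/
theorem center_le (htf : TypeFacts.{u}) (h : Frame P S₁ S₂ A) {L : Subgroup G} (hL : Met A L)
    {z : ↥L} (hz : z ∈ center ↥L) : (z : G) ∈ A := by
  obtain ⟨P₀, hP₀, hA₀, hZ⟩ := exists_sylow h hL.1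
  rcases h.str.type L hL with hAT | hNT
  · rw [h.str.center_bot L hL hAT.2.2.1, mem_bot] at hz
    rw [hz]
    exact A.one_mem
  set N := A.subgroupOf L ⊓ center ↥L with hN
  haveI : N.Normal := ⟨fun n hn g => by
    rwa [mem_center_iff.1 hn.2 g, mul_inv_cancel_right]⟩
  haveI := Components.qs_nontrivial hL.1.2
  haveI : Nontrivial (↥L ⧸ N) := QuotientGroup.nontrivial_iff.2 fun e =>
    Components.qs_center_ne_top hL.1.2 (top_le_iff.1 (e.ge.trans inf_le_right))
  have hq : Cfsg.IsQuasisimple (↥L ⧸ N) :=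
    Components.qs_of_surjective hL.1.2 _ (QuotientGroup.mk'_surjective N)
  set f := QuotientGroup.mk' N with hf
  have hfs : Function.Surjective f := QuotientGroup.mk'_surjective N
  have hcomap : (center (↥L ⧸ N)).comap f = center ↥L := by
    refine le_antisymm (Components.qs_normal_le_center hL.1.2 _ fun e =>
      Components.qs_center_ne_top hq ?_) fun y hy => mem_center_iff.2 fun w => ?_
    · rw [← map_comap_eq_self_of_surjective hfs (center (↥L ⧸ N)), e,
        map_top_of_surjective f hfs]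
    · obtain ⟨w', rfl⟩ := hfs w
      rw [← map_mul, ← map_mul, mem_center_iff.1 hy w']
  have e : Quot L ≃* (↥L ⧸ N) ⧸ center (↥L ⧸ N) := (QuotientGroup.quotientMulEquivOfEq (by
    rw [← MonoidHom.comap_ker, QuotientGroup.ker_mk', hcomap])).trans
    (QuotientGroup.quotientKerEquivOfSurjective
      ((QuotientGroup.mk' (center (↥L ⧸ N))).comp f)
      ((QuotientGroup.mk'_surjective _).comp hfs))
  have hNT' : NType ((↥L ⧸ N) ⧸ center (↥L ⧸ N)) := by
    obtain ⟨hs, hna, hb, hab⟩ := hNT
    haveI := hs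
    refine ⟨e.symm.isSimpleGroup, fun hc => hna ⟨⟨fun a b => e.injective (by
      rw [map_mul, map_mul, hc.is_comm.comm])⟩⟩, ?_, fun hc =>
      hab (hc.surj e.symm.toMonoidHom e.symm.surjective)⟩
    rcases hb with ⟨F, i1, i2, h1, h2, ⟨e'⟩⟩ | ⟨F, i1, i2, n, h1, h2, ⟨e'⟩⟩ |
      ⟨F, i1, i2, m, h1, h2, ⟨e'⟩⟩
    · exact Or.inl ⟨F, i1, i2, h1, h2, ⟨e.symm.trans e'⟩⟩
    · exact Or.inr (Or.inl ⟨F, i1, i2, n, h1, h2, ⟨e.symm.trans e'⟩⟩)
    · exact Or.inr (Or.inr ⟨F, i1, i2, m, h1, h2, ⟨e.symm.trans e'⟩⟩)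
  have hO : Cfsg.oddCore (↥L ⧸ N) = ⊥ :=
    H46.HalfClasses.core_quotient (H48.WA.oddCore_subnormal h.hO hL.1.1) N inf_le_right
      ((H46.HalfClasses.center_isPGroup (H48.WA.oddCore_subnormal h.hO hL.1.1)).to_le inf_le_right)
  obtain ⟨V, hV, hVm⟩ := exists_ndata htf h hL hNT hA₀
  have hbot : center (↥L ⧸ N) = ⊥ := by
    refine htf.cover _ hq hO hNT' (P₀.mapSurjective hfs) ((A.subgroupOf L).map f) ?_ ?_ ?_ ?_
    · rw [Sylow.coe_mapSurjective]; exact map_mono hA₀
    · refine ⟨⟨⟨?_⟩⟩, ?_⟩
      · rintro ⟨_, a, ha, rfl⟩ ⟨_, b, hb, rfl⟩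
        refine Subtype.ext ?_
        show f a * f b = f b * f a
        haveI := h.elem.1
        rw [← map_mul, ← map_mul]
        exact congrArg f (Subtype.ext (congrArg Subtype.val
          (mul_comm' (⟨a, ha⟩ : ↥A) ⟨b, hb⟩) : (a : G) * b = b * a))
      · rintro _ ⟨a, ha, rfl⟩
        rw [← map_pow, show a ^ 2 = 1 from Subtype.ext (by simpa using h.elem.2 _ ha), map_one]
    · rw [Sylow.coe_mapSurjective]
      rintro _ ⟨t, ht, rfl⟩
      refine mem_centralizer_iff.2 ?_
      rintro _ ⟨a, ha, rfl⟩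
      rw [← commutatorElement_eq_one_iff_mul_comm, ← map_commutatorElement]
      refine (QuotientGroup.eq_one_iff _).2 ⟨mem_subgroupOf.2 ?_, ?_⟩
      · have htP : (t : G) ∈ (P : Subgroup G) := mem_subgroupOf.1 (hP₀ ▸ ht)
        have haP := h.closedA.1 (mem_subgroupOf.1 ha)
        have h1 : (t : G) * (a : G)⁻¹ * (t : G)⁻¹ ∈ A :=
          h.closedA.2 _ (A.inv_mem (mem_subgroupOf.1 ha)) t
            (mul_mem (mul_mem htP (inv_mem haP)) (inv_mem htP))
        simpa [commutatorElement_def, mul_assoc] using A.mul_mem (mem_subgroupOf.1 ha) h1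
      · show ⁅a, t⁆ ∈ center ↥L
        rw [← QuotientGroup.eq_one_iff, ← QuotientGroup.mk'_apply, map_commutatorElement,
          commutatorElement_eq_one_iff_mul_comm]
        exact (mem_centralizer_iff.1 (hV.central ((hVm a (hA₀ ha)).2 (mem_sup_left ha))) _
          (mem_map_of_mem _ ht)).symm
    · rw [Sylow.coe_mapSurjective]
      rintro _ ⟨t, ht, rfl⟩ htt
      rw [← map_mul, ← mem_comap, hcomap] at htt
      obtain ⟨a, ha, c, hc, rfl⟩ := mem_sup_of_normal_right.1 ((h.str.image L hL P₀ hA₀ t ht).1 htt)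
      rw [map_mul]
      refine mul_mem (mem_sup_left (mem_map_of_mem f ha)) (mem_sup_right ?_)
      rw [← mem_comap, hcomap]; exact hc
  rw [← hcomap, hbot, MonoidHom.comap_bot, hf, QuotientGroup.ker_mk'] at hz
  exact mem_subgroupOf.1 hz.1

theorem metProd_inf_cent (htf : TypeFacts.{u}) (h : Frame P S₁ S₂ A) :
    metProd A ⊓ metCent A ≤ A := by
  classical
  haveI := Fintype.ofFinite (MetComp A)
  suffices key : ∀ F : Finset (MetComp A), ∀ x ∈ ⨆ L ∈ F, (L : Subgroup G),
      x ∈ metCent A → x ∈ A by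
    rintro x ⟨hx, hxc⟩
    refine key Finset.univ x ?_ hxc
    exact (iSup_le fun L => le_iSup₂ (f := fun (L : MetComp A) (_ : L ∈ Finset.univ) =>
      (L : Subgroup G)) L (Finset.mem_univ L)) hx
  intro F
  induction F using Finset.induction_on with
  | empty =>
    intro x hx _
    simp only [Finset.notMem_empty, iSup_false, iSup_bot, mem_bot] at hx
    rw [hx]; exact A.one_mem
  | @insert L F hi ih =>
    intro x hx hxc
    rw [Finset.iSup_insert, sup_comm] at hx
    have hF : (⨆ K ∈ F, (K : Subgroup G)) ≤ centralizer ((L : Subgroup G) : Set G) :=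
      iSup₂_le fun K hK => comp_comm K L fun e => hi (e ▸ hK)
    obtain ⟨y, hy, l, hl, rfl⟩ := (Coprime.mem_sup_iff
      ((le_centralizer_iff.1 hF).trans (centralizer_le_normalizer _))).1 hx
    have hlc : l ∈ centralizer ((L : Subgroup G) : Set G) := by
      have := mul_mem (inv_mem (hF hy)) (mem_iInf.1 hxc L)
      rwa [inv_mul_cancel_left] at this
    have hlA : l ∈ A := center_le htf h L.2 (z := ⟨l, hl⟩)
      (mem_center_iff.2 fun w => Subtype.ext (mem_centralizer_iff.1 hlc w w.2))
    refine A.mul_mem (ih y hy ?_) hlA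
    have hlm : l ∈ metCent A := mem_iInf.2 fun K => by
      rcases eq_or_ne K L with rfl | hne
      · exact hlc
      · exact comp_comm L K hne.symm hl
    have := mul_mem hxc (inv_mem hlm)
    rwa [mul_inv_cancel_right] at this

theorem closure_inf_cent (htf : TypeFacts.{u}) (h : Frame P S₁ S₂ A) :
    normalClosure (A : Set G) ⊓ metCent A ≤ A := by
  rintro x ⟨hx, hxc⟩
  obtain ⟨e, he, a, ha, rfl⟩ := (Coprime.mem_sup_iff (show A ⊓ Cfsg.pCore 2 G ≤
    normalizer (metProd A : Set G) from inf_le_left.trans ((le_iInf fun L : MetComp A =>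
      h.str.fix L L.2.1).trans (iInf_normalizer_le_normalizer_iSup _)))).1
    (show x ∈ metProd A ⊔ A ⊓ Cfsg.pCore 2 G by rw [sup_comm]; exact normalClosure_A_le h hx)
  refine A.mul_mem (metProd_inf_cent htf h ⟨he, ?_⟩) ha.1
  have hac : a ∈ metCent A := (h.str.two_part.le ha).2
  have := Subgroup.mul_mem _ hxc (Subgroup.inv_mem _ hac)
  show e ∈ metCent A
  rwa [mul_inv_cancel_right] at this

/-- `S₁ ∩ S₂M ≤ (S₁ ∩ S₂)M`. -/
theorem inter_le (htf : TypeFacts.{u}) (h : Frame P S₁ S₂ A) :
    S₁ ⊓ (S₂ ⊔ normalClosure (A : Set G)) ≤ S₁ ⊓ S₂ ⊔ normalClosure (A : Set G) := by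
  set M := normalClosure (A : Set G)
  have red : ∀ {T₁ T₂ : Subgroup G}, Frame P T₁ T₂ A →
      T₁ ⊓ (T₂ ⊔ M) ≤ (T₁ ⊓ M) ⊔ (T₁ ⊓ (T₂ ⊔ M) ⊓ metCent A) := fun {T₁ T₂} hT => by
    refine (reduce (fun L : MetComp A => (L : Subgroup G)) (fun L => T₁ ⊓ L) _
      (fun L => inf_le_right) (fun L K hne => inf_le_right.trans (comp_comm L K hne))
      (fun L => inf_le_inf_left _ ((comp_le_closure L.2).trans le_sup_right))
      fun L => mem_step htf hT L.2 (closure_le_comp hT L)).trans (sup_le_sup_right ?_ _)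
    exact iSup_le fun L => inf_le_inf_left _ (comp_le_closure L.2)
  refine (red h).trans (sup_le (inf_le_right.trans le_sup_right) ?_)
  rintro x ⟨⟨hx1, hx2⟩, hxc⟩
  obtain ⟨m, hm, s, hs, rfl⟩ :=
    (Coprime.mem_sup_iff (Components.le_normalizer_of_normal S₂)).1
      (show x ∈ M ⊔ S₂ by rw [sup_comm]; exact hx2)
  have hs2 : s ∈ S₂ ⊓ (S₁ ⊔ M) := ⟨hs, by
    rw [show s = m⁻¹ * (m * s) by group]
    exact mul_mem (mem_sup_right (inv_mem hm)) (mem_sup_left hx1)⟩
  have hc : (S₂ ⊓ (S₁ ⊔ M) ⊓ metCent A) ≤ normalizer ((S₂ ⊓ M : Subgroup G) : Set G) :=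
    ((inf_le_left.trans inf_le_left).trans (le_inf le_normalizer
      (Components.le_normalizer_of_normal S₂))).trans inf_normalizer_le_normalizer_inf
  obtain ⟨w, hw, s', hs', rfl⟩ := (Coprime.mem_sup_iff hc).1 (red h.symm hs2)
  have hm' : m * w ∈ metCent A := by
    have := Subgroup.mul_mem _ hxc (Subgroup.inv_mem _ hs'.2)
    rwa [← mul_assoc, mul_inv_cancel_right] at this
  have hmA : m * w ∈ A := closure_inf_cent htf h ⟨mul_mem hm hw.2, hm'⟩
  rw [← mul_assoc] at hx1 ⊢
  exact mem_sup_left ⟨hx1, S₂.mul_mem (h.le₂ hmA) hs'.1.1⟩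

/-- What acts on every met component as an element of it and centralises `A ∩ O₂`. -/
def inner (A : Subgroup G) : Subgroup G :=
  centralizer ((A ⊓ Cfsg.pCore 2 G : Subgroup G) : Set G) ⊓
    ⨅ L : MetComp A, ((L : Subgroup G) ⊔ centralizer ((L : Subgroup G) : Set G))

theorem map_conj_centralizer (g : G) (L : Subgroup G) :
    (centralizer (L : Set G)).map (MulAut.conj g).toMonoidHom =
      centralizer ((L.map (MulAut.conj g).toMonoidHom : Subgroup G) : Set G) := by
  refine le_antisymm ?_ fun y hy => ⟨(MulAut.conj g).symm y, mem_centralizer_iff.2 fun l hl => ?_,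
    by simp [mul_assoc]⟩
  · rintro _ ⟨c, hc, rfl⟩
    refine mem_centralizer_iff.2 ?_
    rintro _ ⟨l, hl, rfl⟩
    rw [← map_mul, ← map_mul, mem_centralizer_iff.1 hc l hl]
  · have := mem_centralizer_iff.1 hy _ (mem_map_of_mem (MulAut.conj g).toMonoidHom hl)
    refine (MulAut.conj g).injective ?_
    rw [map_mul, map_mul, MulEquiv.apply_symm_apply]
    exact this

/-- The conjugate of a met component. -/
def MetComp.conj (h : Frame P S₁ S₂ A) (g : G) (L : MetComp A) : MetComp A :=
  ⟨(L : Subgroup G).map (MulAut.conj g).toMonoidHom, h.str.met_conj L L.2 g⟩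

theorem inner_normal (h : Frame P S₁ S₂ A) : (inner A).Normal := by
  refine ⟨fun x hx g => ⟨?_, mem_iInf.2 fun L => ?_⟩⟩
  · haveI := h.str.two_part_normal
    exact Subgroup.Normal.conj_mem inferInstance x hx.1 g
  · have := mem_map_of_mem (MulAut.conj g).toMonoidHom (mem_iInf.1 hx.2 (MetComp.conj h g⁻¹ L))
    rw [Subgroup.map_sup, map_conj_centralizer] at this
    have e : ((MetComp.conj h g⁻¹ L : MetComp A) : Subgroup G).map (MulAut.conj g).toMonoidHom =
        (L : Subgroup G) := by
      show ((L : Subgroup G).map _).map _ = _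
      rw [Subgroup.map_map]
      convert Subgroup.map_id (L : Subgroup G)
      ext y; simp [mul_assoc]
    rwa [e] at this

/-- Smallness is a property of the orbit. -/
theorem small_conj (h : Frame P S₁ S₂ A) (L : MetComp A) (g : G) (hs : SmallAt A S₁ L) :
    SmallAt A S₁ (MetComp.conj h g L : MetComp A) := by
  set M := normalClosure (A : Set G) with hM
  obtain ⟨Q, hQ⟩ := Cfsg.Agent.S0542.result 2 M
    (Subgroup.Normal.isSubnormal (H := M) inferInstance) P
  have htop := Q.normalizer_sup_eq_top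
  rw [hQ, subgroupOf_map_subtype] at htop
  obtain ⟨m, hm, n, hn, rfl⟩ := (Coprime.mem_sup_iff (Components.le_normalizer_of_normal _)).1
    (show g ∈ M ⊔ normalizer ((((P : Subgroup G) ⊓ M : Subgroup G)) : Set G) by
      rw [sup_comm, htop]; exact mem_top g)
  set K := MetComp.conj h n L with hK
  have hmK : m ∈ normalizer ((K : Subgroup G) : Set G) :=
    sup_le le_normalizer (centralizer_le_normalizer _) (closure_le_comp h K hm)
  have e : (MetComp.conj h (m * n) L : MetComp A) = K := Subtype.ext (by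
    rw [← Coprime.map_conj_eq hmK]
    show (L : Subgroup G).map _ = ((L : Subgroup G).map _).map _
    rw [Subgroup.map_map]
    congr 1
    ext y; simp [mul_assoc])
  rw [e]
  rintro x ⟨hxS, hxK⟩
  obtain ⟨y, hy, rfl⟩ := id hxK
  have hxQ : (MulAut.conj n).toMonoidHom y ∈ (P : Subgroup G) ⊓ M :=
    ⟨h.closed₁.1 hxS, comp_le_closure K.2 hxK⟩
  have hyQ : y ∈ (P : Subgroup G) ⊓ M := (mem_normalizer_iff.1 hn y).2 hxQ
  have hyS : y ∈ S₁ := by
    have := h.closed₁.2 _ hxS n⁻¹ (by rw [show n⁻¹ * (MulAut.conj n).toMonoidHom y * n⁻¹⁻¹ = y by simp [mul_assoc]]; exact hyQ.1)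
    simpa [mul_assoc] using this
  obtain ⟨c, hc, a, ha, rfl⟩ := (Coprime.mem_sup_iff (inf_le_right.trans (le_normalizer.trans
    (Components.normalizer_le_normalizer_centralizer (L : Subgroup G))))).1
    (show y ∈ centralizer ((L : Subgroup G) : Set G) ⊔ A ⊓ L by
      rw [sup_comm]; exact hs ⟨hyS, hy⟩)
  rw [map_mul]
  refine mul_mem (mem_sup_right ?_) (mem_sup_left ⟨?_, mem_map_of_mem _ ha.2⟩)
  · rw [hK, MetComp.conj, ← map_conj_centralizer]
    exact mem_map_of_mem _ hc
  · exact h.closedA.2 a ha.1 n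
      ((mem_normalizer_iff.1 hn a).1 ⟨h.closedA.1 ha.1, subset_normalClosure ha.1⟩).1

theorem closure_le_of_small (htf : TypeFacts.{u}) (h : Frame P S₁ S₂ A) (L : MetComp A)
    (hs : SmallAt A S₁ L) :
    normalClosure (S₁ : Set G) ≤ (L : Subgroup G) ⊔ centralizer ((L : Subgroup G) : Set G) := by
  refine (closure_le _).2 fun y hy => ?_
  obtain ⟨b, hb, hby⟩ := Group.mem_conjugatesOfSet_iff.1 hy
  obtain ⟨g, rfl⟩ := isConj_iff.1 hby
  have hs' := small_conj h L g⁻¹ hs
  have h1 := mem_map_of_mem (MulAut.conj g).toMonoidHom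
    (((strong htf h (MetComp.conj h g⁻¹ L).2 hs').trans (sup_le_sup_right inf_le_right _)) hb)
  have e : ((MetComp.conj h g⁻¹ L : MetComp A) : Subgroup G).map (MulAut.conj g).toMonoidHom =
      (L : Subgroup G) := by
    show ((L : Subgroup G).map _).map _ = _
    rw [Subgroup.map_map]
    convert Subgroup.map_id (L : Subgroup G)
    ext y; simp [mul_assoc]
  rw [Subgroup.map_sup, map_conj_centralizer, e] at h1
  exact h1

theorem closure_fix (h : Frame P S₁ S₂ A) (L : MetComp A) :
    normalClosure (S₁ : Set G) ≤ normalizer ((L : Subgroup G) : Set G) := by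
  refine (closure_le _).2 fun y hy => ?_
  obtain ⟨b, hb, hby⟩ := Group.mem_conjugatesOfSet_iff.1 hy
  obtain ⟨g, rfl⟩ := isConj_iff.1 hby
  have hn := Coprime.map_conj_eq (fix h (MetComp.conj h g⁻¹ L).2 hb)
  refine Components.mem_normalizer_of_map_conj_eq ?_
  have e := congrArg (fun K : Subgroup G => K.map (MulAut.conj g).toMonoidHom) hn
  simp only [MetComp.conj, Subgroup.map_map] at e
  convert e using 2
  · ext y; simp [mul_assoc]
  · convert (Subgroup.map_id (L : Subgroup G)).symm
    ext y; simp [mul_assoc]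

theorem closure_cent (h : Frame P S₁ S₂ A) :
    normalClosure (S₁ : Set G) ≤ centralizer ((A ⊓ Cfsg.pCore 2 G : Subgroup G) : Set G) := by
  haveI := h.str.two_part_normal
  exact normalClosure_le_normal ((le_cent h).trans (centralizer_le inf_le_left))

/-- The commutator of the closures is inner on `M`, and so is `S₁ ∩ S₂`. -/
theorem commutator_le_inner (htf : TypeFacts.{u}) (h : Frame P S₁ S₂ A) :
    ⁅normalClosure (S₁ : Set G), normalClosure (S₂ : Set G)⁆ ≤ inner A ∧
      S₁ ⊓ S₂ ≤ inner A := by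
  refine ⟨le_inf ((commutator_mono (closure_cent h) (closure_cent h.symm)).trans
    (commutator_le_self _)) (le_iInf fun L => ?_), le_inf (inf_le_left.trans
    ((le_cent h).trans (centralizer_le inf_le_left))) (le_iInf fun L => ?_)⟩
  · have hn : normalizer ((L : Subgroup G) : Set G) ≤ normalizer
        (((L : Subgroup G) ⊔ centralizer ((L : Subgroup G) : Set G) : Subgroup G) : Set G) :=
      (le_inf le_rfl (Components.normalizer_le_normalizer_centralizer _)).trans
        (normalizer_inf_normalizer_le_normalizer_sup _ _)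
    rcases small_or_small htf h L.2 with hs | hs
    · exact (commutator_mono (closure_le_of_small htf h L hs)
        ((closure_fix h.symm L).trans hn)).trans (le_normalizer_iff_commutator_le_left.1 le_rfl)
    · rw [commutator_comm]
      exact (commutator_mono (closure_le_of_small htf h.symm L hs)
        ((closure_fix h L).trans hn)).trans (le_normalizer_iff_commutator_le_left.1 le_rfl)
  · rcases small_or_small htf h L.2 with hs | hs
    · exact inf_le_left.trans ((strong htf h L.2 hs).trans (sup_le_sup_right inf_le_right _))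
    · exact inf_le_right.trans ((strong htf h.symm L.2 hs).trans
        (sup_le_sup_right inf_le_right _))

/-- A normal subgroup odd over `M` meets `inner A` in `M`. -/
theorem inner_inf_le (h : Frame P S₁ S₂ A) {M₁ : Subgroup G} [M₁.Normal]
    (hM : normalClosure (A : Set G) ≤ M₁)
    (hodd : Odd (Nat.card ↥(M₁.map (QuotientGroup.mk' (normalClosure (A : Set G)))))) :
    inner A ⊓ M₁ ≤ normalClosure (A : Set G) := by
  set M := normalClosure (A : Set G) with hMdef
  have hEM : metProd A ≤ M := iSup_le fun L => comp_le_closure L.2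
  have hin : inner A ≤ metProd A ⊔ (centralizer (M : Set G)) := by
    have hU : ∀ L : MetComp A, (L : Subgroup G) ≤ inner A := fun L => by
      refine le_inf ?_ (le_iInf fun K => ?_)
      · rw [le_centralizer_iff, h.str.two_part]
        exact inf_le_right.trans (iInf_le _ L)
      · rcases eq_or_ne L K with rfl | hne
        · exact le_sup_left
        · exact (comp_comm L K hne).trans le_sup_right
    refine (reduce (fun L : MetComp A => (L : Subgroup G)) (fun L => (L : Subgroup G)) (inner A)
      (fun L => le_rfl) (fun L K hne => comp_comm L K hne) hU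
      fun L => inf_le_right.trans (iInf_le _ L)).trans (sup_le_sup_left ?_ _)
    rintro x ⟨hx1, hx2⟩
    exact le_centralizer_iff.1 ((normalClosure_A_le h).trans (sup_le
      (le_centralizer_iff.1 (zpowers_le.2 hx1.1)) (iSup_le fun L =>
        le_centralizer_iff.1 (zpowers_le.2 (mem_iInf.1 hx2 L))))) (mem_zpowers x)
  suffices hC : centralizer (M : Set G) ⊓ M₁ ≤ M by
    rintro x ⟨hx, hx1⟩
    obtain ⟨e, he, c, hc, rfl⟩ := (Coprime.mem_sup_iff
      ((centralizer_le (SetLike.coe_subset_coe.2 hEM)).trans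
        (centralizer_le_normalizer _))).1 (hin hx)
    refine mul_mem (hEM he) (hC ⟨hc, ?_⟩)
    have := M₁.mul_mem (M₁.inv_mem (hM (hEM he))) hx1
    rwa [inv_mul_cancel_left] at this
  set C := centralizer (M : Set G) ⊓ M₁ with hCdef
  haveI : (centralizer (M : Set G)).Normal := inferInstance
  have hOC : Cfsg.oddCore ↥C = ⊥ := H48.WA.oddCore_subnormal h.hO
    (Subgroup.Normal.isSubnormal (H := C) inferInstance)
  set f := (QuotientGroup.mk' M).comp C.subtype with hfdef
  have hker : ∀ k : ↥C, k ∈ f.ker → k ∈ center ↥C := fun k hk =>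
    mem_center_iff.2 fun y => Subtype.ext
      (mem_centralizer_iff.1 y.2.1 k ((QuotientGroup.eq_one_iff _).1 hk)).symm
  have hk2 : IsPGroup 2 ↥f.ker := (H46.HalfClasses.center_isPGroup hOC).to_le hker
  have hrange : Odd f.ker.index := by
    rw [index_ker]
    refine hodd.of_dvd_nat (card_dvd_of_le ?_)
    rintro _ ⟨k, rfl⟩
    exact mem_map_of_mem _ k.2.2
  obtain ⟨j, hj⟩ := IsPGroup.iff_card.1 hk2
  have hcop : Nat.Coprime (Nat.card ↥f.ker) f.ker.index := by
    rw [hj]; exact (Nat.coprime_two_left.2 hrange).pow_left j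
  obtain ⟨R, hR⟩ := Subgroup.exists_right_complement'_of_coprime hcop
  have hRn : R.Normal := normalizer_eq_top_iff.1 (top_le_iff.1 (hR.sup_eq_top.ge.trans
    (sup_le (fun k hk => centralizer_le_normalizer _ (mem_centralizer_iff.2 fun r _ =>
      mem_center_iff.1 (hker k hk) r)) le_normalizer)))
  have hRbot : R = ⊥ := by
    haveI := hRn
    refine le_bot_iff.1 (hOC ▸ Cores.le_oddCore ?_)
    rw [← hR.symm.index_eq_card]
    exact hrange
  intro x hx
  have : (⟨x, hx⟩ : ↥C) ∈ f.ker := by
    have htop := hR.sup_eq_top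
    rw [hRbot, sup_bot_eq] at htop
    rw [htop]; exact mem_top _
  exact (QuotientGroup.eq_one_iff _).1 this

end Cfsg.Agent.H21.ProductFusion
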