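import Cfsg.Agent.H21.ProductFusion.Global
import Cfsg.Agent.H52.Commuting.Product

/-!
# Goldschmidt's product fusion theorem

Commuting strongly closed subgroups `S₁`, `S₂` of a Sylow 2-subgroup have normal closures whose
commutator lies in the normal closure of `S₁ ∩ S₂` times the odd core.
-/

set_option autoImplicit false
set_option linter.unusedSectionVars false
set_option linter.style.haveILetI false

namespace Cfsg.Agent.H21.ProductFusion

open Subgroup Cfsg.Agent
open Cfsg.Agent.H77.WA (TypeFacts StructFacts Small)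
open scoped commutatorElement

universe u

variable {G : Type u} [Group G] [Finite G]

local instance fact_two_pm : Fact (Nat.Prime 2) := ⟨Nat.prime_two⟩

theorem map_closure {H : Type u} [Group H] (f : G →* H) (hf : Function.Surjective f)
    (K : Subgroup G) :
    (normalClosure (K : Set G)).map f = normalClosure ((K.map f : Subgroup H) : Set H) := by
  rw [Subgroup.map_normalClosure _ f hf, Subgroup.coe_map]

/-- The involutions of an abelian subgroup. -/
def invols (T : Subgroup G) (hT : ∀ a ∈ T, ∀ b ∈ T, a * b = b * a) : Subgroup G where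
  carrier := {x | x ∈ T ∧ x * x = 1}
  one_mem' := ⟨one_mem _, one_mul 1⟩
  mul_mem' := fun {a b} ha hb => ⟨mul_mem ha.1 hb.1, by
    calc a * b * (a * b) = a * (b * a) * b := by group
      _ = a * (a * b) * b := by rw [hT b hb.1 a ha.1]
      _ = a * a * (b * b) := by group
      _ = 1 := by rw [ha.2, hb.2, one_mul]⟩
  inv_mem' := fun {a} ha => ⟨inv_mem ha.1, by rw [← mul_inv_rev, ha.2, inv_one]⟩

theorem productFusion_aux (htf : TypeFacts.{u}) (hsf : StructFacts.{u})
    (hsmall : ∀ n : ℕ, Small.{u} n) : ∀ (n : ℕ) (G : Type u) [Group G] [Finite G], Nat.card G < n →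
      ∀ (S : Sylow 2 G) (S₁ S₂ : Subgroup G), Cfsg.IsStronglyClosed S₁ (S : Subgroup G) →
        Cfsg.IsStronglyClosed S₂ (S : Subgroup G) → (∀ a ∈ S₁, ∀ b ∈ S₂, a * b = b * a) →
        ⁅normalClosure (S₁ : Set G), normalClosure (S₂ : Set G)⁆ ≤
          normalClosure ((S₁ ⊓ S₂ : Subgroup G) : Set G) ⊔ Cfsg.pPrimeCore 2 G := by
  intro n
  induction n with
  | zero => intro G _ _ h; exact absurd h (Nat.not_lt_zero _)
  | succ n ih =>
  intro G _ _ hn S S₁ S₂ h₁ h₂ hc
  set T := S₁ ⊓ S₂ with hT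
  -- the reduction by a normal subgroup
  have step : ∀ (N : Subgroup G) [N.Normal], N ≠ ⊥ →
      S₁ ⊓ (S₂ ⊔ N) ≤ T ⊔ N →
      ∀ x ∈ ⁅normalClosure (S₁ : Set G), normalClosure (S₂ : Set G)⁆,
        QuotientGroup.mk' N x ∈ (normalClosure (T : Set G)).map (QuotientGroup.mk' N) ⊔
          Cfsg.pPrimeCore 2 (G ⧸ N) := by
    intro N _ hN hinter x hx
    set π := QuotientGroup.mk' N
    have hπ : Function.Surjective π := QuotientGroup.mk'_surjective N
    have h := ih (G ⧸ N) (lt_of_lt_of_le (H52.Commuting.card_quotient_lt hN)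
      (Nat.lt_succ_iff.1 hn)) (S.mapSurjective hπ) (S₁.map π) (S₂.map π)
      (by rw [Sylow.coe_mapSurjective]; exact H52.Commuting.closed_quotient h₁ N)
      (by rw [Sylow.coe_mapSurjective]; exact H52.Commuting.closed_quotient h₂ N)
      (by rintro _ ⟨a, ha, rfl⟩ _ ⟨b, hb, rfl⟩; rw [← map_mul, ← map_mul, hc a ha b hb])
    have hle : S₁.map π ⊓ S₂.map π ≤ T.map π := by
      rintro _ ⟨⟨a, ha, rfl⟩, ⟨b, hb, e⟩⟩
      have hm : b⁻¹ * a ∈ N := QuotientGroup.eq.1 e
      have h3 := mem_map_of_mem π (hinter ⟨ha, by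
        simpa using mul_mem (mem_sup_left (T := N) hb) (mem_sup_right (S := S₂) hm)⟩)
      rwa [Subgroup.map_sup, QuotientGroup.map_mk'_self, sup_bot_eq] at h3
    rw [← map_closure π hπ, ← map_closure π hπ, ← map_commutator] at h
    refine (h.trans (sup_le_sup_right ?_ _)) (mem_map_of_mem π hx)
    rw [map_closure π hπ]
    exact normalClosure_mono (SetLike.coe_subset_coe.2 hle)
  by_cases hO : Cfsg.pPrimeCore 2 G = ⊥
  swap
  · -- modulo the core
    intro x hx
    set O := Cfsg.pPrimeCore 2 G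
    have hinter : S₁ ⊓ (S₂ ⊔ O) ≤ T ⊔ O := by
      rintro a ⟨ha, hb⟩
      obtain ⟨o, ho, b, hb', rfl⟩ := (Coprime.mem_sup_iff (H := S₂) (N := O)
        (Components.le_normalizer_of_normal _)).1 (by rw [sup_comm]; exact hb)
      have hoS' : o ∈ (S : Subgroup G) := by
        rw [show o = o * b * b⁻¹ by group]
        exact Subgroup.mul_mem _ (h₁.1 ha) (Subgroup.inv_mem _ (h₂.1 hb'))
      have hoS : o ∈ (S : Subgroup G) ⊓ O := ⟨hoS', ho⟩
      rw [Cores.disjoint_of_isPGroup_of_coprime S.isPGroup' Cores.coprime_card_pPrimeCore,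
        mem_bot] at hoS
      rw [hoS, one_mul] at ha ⊢
      exact mem_sup_left ⟨ha, hb'⟩
    have h := step O hO hinter x hx
    rw [Cores.pPrimeCore_quotient_pPrimeCore, sup_bot_eq, ← mem_comap, comap_map_eq,
      QuotientGroup.ker_mk'] at h
    exact h
  by_cases hTb : T = ⊥
  · -- disjoint
    have hp : H52.Commuting.Pair S S₁ S₂ := ⟨h₁, h₂, hc, hTb⟩
    rw [commutator_eq_bot_iff_le_centralizer.2 (H52.Commuting.le_centralizer_closures hp hO)]
    exact bot_le
  have hTc : ∀ a ∈ T, ∀ b ∈ T, a * b = b * a := fun a ha b hb => hc a ha.1 b hb.2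
  have hTcl : Cfsg.IsStronglyClosed T (S : Subgroup G) := ⟨inf_le_left.trans h₁.1,
    fun a ha g hg => ⟨h₁.2 a ha.1 g hg, h₂.2 a ha.2 g hg⟩⟩
  set A := invols T hTc with hAdef
  have hAT : A ≤ T := fun _ ha => ha.1
  have hAel : Cfsg.IsElementaryAbelian 2 A :=
    ⟨⟨⟨fun a b => Subtype.ext (hTc _ (hAT a.2) _ (hAT b.2))⟩⟩,
      fun a ha => (pow_two a).trans ha.2⟩
  have hAcl : Cfsg.IsStronglyClosed A (S : Subgroup G) := ⟨hAT.trans hTcl.1,
    fun a ha g hg => ⟨hTcl.2 a ha.1 g hg, by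
      rw [show g * a * g⁻¹ * (g * a * g⁻¹) = g * (a * a) * g⁻¹ by group, ha.2]; simp⟩⟩
  have h : Frame S S₁ S₂ A := ⟨hO, h₁, h₂, hc, hAcl, hAel, hAT.trans inf_le_left,
    hAT.trans inf_le_right, hsf G S A hO hAel hAcl (hsmall _)⟩
  have hAne : A ≠ ⊥ := fun e => by
    obtain ⟨t, ht, ht1, ht2⟩ :=
      H52.Commuting.exists_invol (S.isPGroup'.to_le hTcl.1) hTb
    exact ht1 (mem_bot.1 (e ▸ (⟨ht, ht2⟩ : t ∈ A)))
  set M := normalClosure (A : Set G) with hM
  have hMne : M ≠ ⊥ := fun e => hAne (le_bot_iff.1 (le_normalClosure.trans e.le))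
  have hMle : M ≤ normalClosure (T : Set G) := normalClosure_mono (SetLike.coe_subset_coe.2 hAT)
  set π := QuotientGroup.mk' M
  set M₁ := (Cfsg.pPrimeCore 2 (G ⧸ M)).comap π with hM₁
  haveI : M₁.Normal := (Cfsg.pPrimeCore_normal 2 (G ⧸ M)).comap π
  intro x hx
  have h1 := step M hMne (inter_le htf h) x hx
  haveI := Cfsg.pPrimeCore_normal 2 (G ⧸ M)
  obtain ⟨_, ⟨y, hy, rfl⟩, o, ho, e⟩ := mem_sup_of_normal_right.1 h1
  have hz : y⁻¹ * x ∈ M₁ := by
    show π (y⁻¹ * x) ∈ Cfsg.pPrimeCore 2 (G ⧸ M)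
    rw [map_mul, map_inv, ← e, inv_mul_cancel_left]
    exact ho
  have hTin : normalClosure (T : Set G) ≤ inner A := by
    haveI := inner_normal h
    exact normalClosure_le_normal (commutator_le_inner htf h).2
  have hzin : y⁻¹ * x ∈ inner A :=
    mul_mem (inv_mem (hTin hy)) ((commutator_le_inner htf h).1 hx)
  have hzM : y⁻¹ * x ∈ M := by
    refine inner_inf_le h ?_ ?_ ⟨hzin, hz⟩
    · intro m hm
      show π m ∈ Cfsg.pPrimeCore 2 (G ⧸ M)
      rw [show π m = 1 from (QuotientGroup.eq_one_iff m).2 hm]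
      exact one_mem _
    · rw [hM₁, map_comap_eq_self_of_surjective (QuotientGroup.mk'_surjective M)]
      exact Cores.odd_card_oddCore
  have h2 := mul_mem hy (hMle hzM)
  rw [mul_inv_cancel_left] at h2
  exact mem_sup_left h2

/-- **Product fusion**, from the theorem on strongly closed abelian subgroups. -/
theorem productFusion (htf : TypeFacts.{u}) (hsf : StructFacts.{u})
    (hsmall : ∀ n : ℕ, Small.{u} n) (S : Sylow 2 G) (S₁ S₂ : Subgroup G)
    (h₁ : Cfsg.IsStronglyClosed S₁ (S : Subgroup G))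
    (h₂ : Cfsg.IsStronglyClosed S₂ (S : Subgroup G))
    (hc : ∀ a ∈ S₁, ∀ b ∈ S₂, a * b = b * a) :
    ⁅normalClosure (S₁ : Set G), normalClosure (S₂ : Set G)⁆ ≤
      normalClosure ((S₁ ⊓ S₂ : Subgroup G) : Set G) ⊔ Cfsg.pPrimeCore 2 G :=
  productFusion_aux htf hsf hsmall (Nat.card G + 1) G (Nat.lt_succ_self _) S S₁ S₂ h₁ h₂ hc

/-- The minimality hypothesis from the statement for simple groups. -/
theorem small_of_simple
    (hwa : ∀ (X : Type u) [Group X] [Finite X] [IsSimpleGroup X] (S : Sylow 2 X) (B : Subgroup X),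
      B ≠ ⊥ → IsMulCommutative ↥B → Cfsg.IsStronglyClosed B (S : Subgroup X) →
        IsMulCommutative ↥(S : Subgroup X) ∨ ∃ H : Subgroup X, Cfsg.IsStronglyEmbedded H)
    (n : ℕ) : Small.{u} n := by
  intro X _ _ _ hs _ S B hB hab hcl
  haveI := hs
  exact (hwa X S B hB hab hcl).imp_left (H10.Walter.absyl_of_sylow S)

end Cfsg.Agent.H21.ProductFusion
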